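import Cfsg.Agent.H892.EP.Good
import Cfsg.Agent.H53.HC.RgdLevi
import Cfsg.Agent.KFacts.RgdSyl
import Cfsg.Agent.Nodes.RGDLib

/-!
# S4929, [M]: `Good` from the subgroup `M_J` of a root group datum (helper537)

* `exists_rep_B` : `Y = ⋃ P_J n_w B`, `w` minimal in `W_J w`;
* `exists_sylow_LJ` : for every Sylow `r`-subgroup `P` the image of `P ∩ P_J` in `L_J` contains a Sylow subgroup;
* `good_of_LJ`, `good_LJ_of_MJ`, `good_of_MJ`.
-/

set_option autoImplicit false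
set_option linter.unusedSectionVars false

namespace Cfsg.Agent.H537.EP

open CoxeterSystem Cfsg.Agent.ChevalleyStructure.CoxeterGeom Cfsg.Agent.Tits.Roots Cfsg.Agent.Tits.Core
  Cfsg.Agent.Tits.Exchange Cfsg.Agent.Nodes.Reps Cfsg.Agent.Nodes.BNOf Cfsg.Agent.Nodes.StabComb
  Cfsg.Agent.Nodes.Bruhat Cfsg.Agent.Nodes.OppDec Cfsg.Agent.Nodes.LeviDec Cfsg.Agent.H53.HC
open scoped Pointwise

universe u

section rgd

variable {I W : Type*} {Y : Type u} [Fintype I] [DecidableEq I] [Group W] [Group Y] {M : CoxeterMatrix I}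
  {cs : CoxeterSystem M W} {A : I → I → ℤ} {h : IsCartan M A} {r : ℕ} {T : Subgroup Y} {n : I → Y}
  {X : (I → ℤ) → Subgroup Y}

variable (R : RGD cs h r T n X)

include R

/-- Every element is `a g b` with `a ∈ P_J`, `b ∈ B` and `g` over an element `w` with `w⁻¹ J` positive. -/
theorem exists_rep_B [Finite W] (hG : GG cs h T X = ⊤) (J : Set I) (x : Y) :
    ∃ a ∈ PJ cs h T X J, ∃ b ∈ RGD.B cs h T X, ∃ w g, Rp cs R.nsys w g ∧ x = a * g * b ∧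
      ∀ i ∈ J, 0 ≤ rep cs h w⁻¹ (sr i) := by
  classical
  have hex : ∃ m : ℕ, ∃ w, cs.length w = m ∧ ∃ a ∈ PJ cs h T X J, ∃ b ∈ RGD.B cs h T X, ∃ g,
      Rp cs R.nsys w g ∧ x = a * g * b := by
    obtain ⟨w, b₁, hb₁, k, hk, b₂, hb₂, e⟩ := (mem_GG R).1 (show x ∈ GG cs h T X by rw [hG]; exact Subgroup.mem_top x)
    exact ⟨_, w, rfl, b₁, B_le_PJ hb₁, b₂, hb₂, k, hk, e⟩
  obtain ⟨w, hw, a, ha, b, hb, g, hg, e⟩ := Nat.find_spec hex
  have hmin := fun m hm => Nat.find_min hex (m := m) hm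
  have hmin' : ∀ v, (∃ a ∈ PJ cs h T X J, ∃ b ∈ RGD.B cs h T X, ∃ g, Rp cs R.nsys v g ∧ x = a * g * b) →
      cs.length w ≤ cs.length v := by
    intro v hv
    rw [hw]
    by_contra hcon
    exact hmin _ (not_le.1 hcon) ⟨v, rfl, hv⟩
  refine ⟨a, ha, b, hb, w, g, hg, e, ?_⟩
  intro i hi
  refine nonneg_of_lt cs h w⁻¹ i ?_
  rw [cs.length_inv, ← cs.length_inv (w⁻¹ * cs.simple i), mul_inv_rev, inv_inv, cs.inv_simple]
  have h1 := hmin' (cs.simple i * w) ⟨a * (n i)⁻¹, mul_mem ha (inv_mem (LJ_le_PJ (n_mem_LJ R hi))), b, hb,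
    n i * g, (rp_simple cs R.nsys i).mul hg, by rw [e]; group⟩
  have h2 := cs.length_simple_mul w i
  omega

variable [Finite Y] [Finite W] [Fact r.Prime] (hG : GG cs h T X = ⊤)

include hG

/-- `U` as a Sylow subgroup -/
theorem exists_sylow_U : ∃ S : Sylow r Y, (S : Subgroup Y) = RGD.Sup X (RGD.Pos cs h) := by
  have hi := KFacts.RgdSyl.not_dvd_relIndex R
  rw [hG, Subgroup.relIndex_top_right] at hi
  exact ⟨R.isPGroup_Upos.toSylow hi, rfl⟩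

/-- the image of `P ∩ P_J` in `L_J` -/
theorem exists_sylow_LJ {J : Set I} {π : ↥(PJ cs h T X J) →* ↥(LJ cs h T X J)}
    (h1 : ∀ (l : Y) (hl : l ∈ LJ cs h T X J), π ⟨l, LJ_le_PJ hl⟩ = ⟨l, hl⟩)
    (h2 : ∀ (v : Y) (hv : v ∈ VJ cs h X J), π ⟨v, VJ_le_PJ hv⟩ = 1) (P : Sylow r Y) :
    ∃ Q : Sylow r ↥(LJ cs h T X J), ∀ q ∈ (Q : Subgroup ↥(LJ cs h T X J)),
      ∃ k : ↥(PJ cs h T X J), (k : Y) ∈ (P : Subgroup Y) ∧ π k = q := by
  have hπ : Function.Surjective π := fun l => ⟨⟨l, LJ_le_PJ l.2⟩, h1 _ _⟩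
  obtain ⟨S, hS⟩ := exists_sylow_U R hG
  have hle : (S : Subgroup Y) ≤ PJ cs h T X J := by
    rw [hS]
    exact le_trans RGD.U_le_B B_le_PJ
  let S' : Sylow r ↥(PJ cs h T X J) := S.subtype hle
  let Q₀ : Sylow r ↥(LJ cs h T X J) := S'.mapSurjective hπ
  -- `P = a U a⁻¹`
  obtain ⟨y, hy⟩ := MulAction.exists_smul_eq Y S P
  obtain ⟨a, ha, b, hb, w, g, hg, e, hw⟩ := exists_rep_B R hG J y
  have hU : ∀ u ∈ UJ cs h X J, a * u * a⁻¹ ∈ (P : Subgroup Y) := by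
    intro u hu
    have h3 : g⁻¹ * u * g ∈ RGD.Sup X (RGD.Pos cs h) :=
      conj_mem_Sup' R hg (S := PosJ cs h J) (S' := RGD.Pos cs h) (fun x hx => hx.1)
        (fun x hx => ⟨hx.1.act _, rep_nonneg_of_supp hw hx.2.1 hx.2.2⟩) hu
    have h4 : b⁻¹ * (g⁻¹ * u * g) * b⁻¹⁻¹ ∈ RGD.Sup X (RGD.Pos cs h) :=
      (Subgroup.mem_normalizer_iff.1 (R.B_le_normalizer_U (inv_mem hb)) _).1 h3
    rw [← hy]
    rw [Sylow.smul_def, Sylow.pointwise_smul_def, Subgroup.mem_pointwise_smul_iff_inv_smul_mem, ← map_inv,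
      MulAut.smul_def, MulAut.conj_apply, inv_inv, hS, e]
    have h5 : (a * g * b)⁻¹ * (a * u * a⁻¹) * (a * g * b) = b⁻¹ * (g⁻¹ * u * g) * b⁻¹⁻¹ := by group
    rw [h5]
    exact h4
  refine ⟨π ⟨a, ha⟩ • Q₀, fun q hq => ?_⟩
  rw [Sylow.smul_def, Sylow.pointwise_smul_def, Subgroup.mem_pointwise_smul_iff_inv_smul_mem, ← map_inv,
    MulAut.smul_def, MulAut.conj_apply, inv_inv] at hq
  have hq' : (π ⟨a, ha⟩)⁻¹ * q * π ⟨a, ha⟩ ∈ ((S' : Subgroup _).map π) := hq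
  obtain ⟨s, hs, hs'⟩ := hq'
  have hs2 : (s : Y) ∈ RGD.Sup X (RGD.Pos cs h) := by
    rw [← hS]
    exact hs
  obtain ⟨u, hu, v, hv, e2⟩ := (mem_U_iff R (J := J)).1 hs2
  have huL : u ∈ LJ cs h T X J := BJ_le_LJ (UJ_le_BJ hu)
  have e3 : π s = ⟨u, huL⟩ := by
    have e4 : s = (⟨u, LJ_le_PJ huL⟩ : ↥(PJ cs h T X J)) * ⟨v, VJ_le_PJ hv⟩ := Subtype.ext e2
    rw [e4, map_mul, h1 u huL, h2 v hv, mul_one]
  refine ⟨⟨a, ha⟩ * ⟨u, LJ_le_PJ huL⟩ * ⟨a, ha⟩⁻¹, hU u hu, ?_⟩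
  rw [map_mul, map_mul, map_inv, h1 u huL, ← e3, hs']
  group

variable {p : ℕ} [Fact p.Prime]

/-- from the Levi subgroup -/
theorem good_of_LJ (J : Set I) (hg : H892.EP.Good p r ↥(LJ cs h T X J)) : H892.EP.Good p r Y := by
  obtain ⟨π, h1, h2⟩ := exists_projL R J
  exact H892.EP.Good.of_sub (PJ cs h T X J) π (fun l => ⟨⟨l, LJ_le_PJ l.2⟩, h1 _ _⟩)
    (fun P => exists_sylow_LJ R hG h1 h2 P) hg

end rgd

section

variable {I W : Type*} {Y : Type u} [Fintype I] [DecidableEq I] [Group W] [Group Y] [Finite Y] {M : CoxeterMatrix I}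
  {cs : CoxeterSystem M W} {A : I → I → ℤ} {h : IsCartan M A} {T : Subgroup Y} {n : I → Y}
  {X : (I → ℤ) → Subgroup Y} {r : ℕ} [Fact r.Prime] {p : ℕ} [Fact p.Prime]

theorem good_LJ_of_MJ (R : RGD cs h r T n X) (J : Set I) (hg : H892.EP.Good p r ↥(MJ cs h X J)) :
    H892.EP.Good p r ↥(LJ cs h T X J) := by
  have h1 : ((MJ cs h X J).subgroupOf (LJ cs h T X J)).Normal :=
    (Subgroup.normal_subgroupOf_iff_le_normalizer (MJ_le_LJ J)).2 (LJ_le_normalizer_MJ R J)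
  exact H892.EP.Good.of_normal h1 (H892.EP.Good.congr (Subgroup.subgroupOfEquivOfLe (MJ_le_LJ J)).symm hg)

/-- **[M]** -/
theorem good_of_MJ [Finite W] (R : RGD cs h r T n X) (hG : Cfsg.Agent.Nodes.RGDLib.G1 cs h X = ⊤)
    (J : Set I) (hg : H892.EP.Good p r ↥(MJ cs h X J)) : H892.EP.Good p r Y := by
  have hGG : GG cs h T X = ⊤ := by
    rw [eq_top_iff, ← hG]
    exact le_sup_right
  exact good_of_LJ R hGG J (good_LJ_of_MJ R J hg)

end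

end Cfsg.Agent.H537.EP
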