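import Cfsg.Agent.H712.EP.Princ
import Cfsg.Agent.H892.EP.Rows
import Cfsg.Agent.H537.EP.OfMJ

/-!
# S4929, [Q2]: the principal series of a root group datum (helper537)

* `evAt_of_btn_par`, `evAt_of_inv_par` : the theorems of `H712/EP/Princ.lean` with the parity property as hypothesis;
* `btn_of_rgd` : the split (B, N)-pair of a root group datum;
* `evAt_q2`.
-/

set_option autoImplicit false
set_option linter.unusedSectionVars false

open scoped ComplexConjugate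
open Cfsg

namespace Cfsg.Agent.H537.EP

open Cfsg.Agent.OddOrderCharacters.Clifford Cfsg.Agent.Characters Cfsg.Agent.H53.HC Cfsg.Agent.H627.Gow
  Cfsg.Agent.H892.EP Cfsg.Agent.H712.EP

universe u

section abs

variable {G : Type u} [Group G]

/-- **(q2)** -/
theorem evAt_of_btn_par {p : ℕ} [Fact p.Prime] [Finite G] (hp2 : p ≠ 2)
    {B U H N : Subgroup G} (D : BTN B U H N)
    (hpar : ∀ χ : IrrCharacter G, ∃ z : ℤ, md U (χ : G → ℂ) - (χ : G → ℂ) 1 = 2 * z)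
    (lam : H →* ℂˣ) (hpow : ∃ k : ℕ, ∀ t, lam t ^ p ^ k = 1) (hne : lam ≠ 1) {n : G} (hn : n ∈ N)
    (hconj : ∀ (t : H) (h : n⁻¹ * (t : G) * n ∈ H), lam ⟨n⁻¹ * t * n, h⟩ = (lam t)⁻¹) : EvAt p G := by
  classical
  intro M hM
  have := Fintype.ofFinite G
  have := Fintype.ofFinite B
  obtain ⟨π, hπ⟩ := D.proj
  obtain ⟨k, hk⟩ := hpow
  let l : H → ℂ := fun t => (lam t : ℂ)
  have hl : IsIrrCharacter H l := by
    have := CharactersDeep.AbelianQuotient.isIrr_linear_mul lam (Core.isIrr_one (G := H))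
    convert this using 1
    funext t
    simp [l]
  have hnorm : ∀ t, conj (l t) = (((lam t)⁻¹ : ℂˣ) : ℂ) := by
    intro t
    have h1 : ‖(lam t : ℂ)‖ = 1 := by
      refine Complex.norm_eq_one_of_pow_eq_one (n := p ^ k) ?_ (pow_ne_zero _ (Fact.out : p.Prime).ne_zero)
      rw [← Units.val_pow_eq_pow_val, hk, Units.val_one]
    show conj (lam t : ℂ) = _
    rw [Units.val_inv_eq_inv_val, Complex.inv_def, Complex.normSq_eq_norm_sq, h1]
    simp
  have hconj' : tw H l n = fun t => conj (l t) := by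
    funext t
    have h1 := D.conj' hn t.2
    rw [tw_apply l n t h1, hnorm]
    show (lam _ : ℂ) = _
    rw [hconj t h1]
  have hne' : (fun t => conj (l t)) ≠ l := by
    intro h
    apply hne
    ext t
    have h1 : conj (l t) = l t := congrFun h t
    rw [hnorm] at h1
    have h2 : (lam t)⁻¹ = lam t := Units.ext h1
    have h3 : lam t ^ 2 = 1 := by
      rw [pow_two]
      nth_rewrite 1 [← h2]
      exact inv_mul_cancel _
    have h4 : orderOf (lam t) = 1 := by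
      refine Nat.eq_one_of_dvd_coprimes (Nat.Coprime.pow_right k ?_) (orderOf_dvd_of_pow_eq_one h3)
        (orderOf_dvd_of_pow_eq_one (hk t))
      exact (Nat.coprime_primes Nat.prime_two Fact.out).2 hp2.symm
    rw [orderOf_eq_one_iff.1 h4]
    rfl
  -- `lam` is in the principal block of `B`
  let θ : IrrCharacter B := ⟨l ∘ π, hπ.irr D hl⟩
  have hθ : θ ∈ principalBlock M B := by
    refine mem_of_regSum hM θ ?_
    have h1 : ∀ x : B, ¬ p ∣ orderOf x → (θ : B → ℂ) x = 1 := by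
      intro x hx
      have h2 : orderOf (lam (π x)) = 1 := by
        refine Nat.eq_one_of_dvd_coprimes (a := orderOf x) (b := p ^ k) ?_ ?_ (orderOf_dvd_of_pow_eq_one (hk _))
        · exact Nat.Coprime.pow_right _ ((Nat.Prime.coprime_iff_not_dvd Fact.out).2 hx).symm
        · exact orderOf_dvd_of_pow_eq_one (by rw [← map_pow, ← map_pow, pow_orderOf_eq_one, map_one, map_one])
      show (lam (π x) : ℂ) = 1
      rw [orderOf_eq_one_iff.1 h2, Units.val_one]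
    rw [finsum_mem_congr (s := {x : B | ¬ p ∣ orderOf x}) rfl fun x hx => h1 x hx,
      finsum_mem_eq_finite_toFinset_sum _ (Set.toFinite _), Finset.sum_const,
      nsmul_eq_mul, mul_one, Ne, Nat.cast_eq_zero, Finset.card_eq_zero, ← Ne, ← Finset.nonempty_iff_ne_empty]
    refine ⟨1, ?_⟩
    rw [Set.Finite.mem_toFinset]
    show ¬ p ∣ orderOf (1 : B)
    rw [orderOf_one]
    exact (Fact.out : p.Prime).one_lt.ne' ∘ Nat.dvd_one.1
  obtain ⟨χ, hχ, h1⟩ := exists_over hM B θ hθ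
  refine ⟨χ, hχ, ?_⟩
  obtain ⟨m, hm⟩ := even_md D χ.2 hl hne' hn hconj' hπ h1
  obtain ⟨z, hz⟩ := hpar χ
  exact even_of_md hz hm

/-- **(q2)** for an abelian torus: an element `n` of `N`, `n ^ 2 ∈ H`, inverts a nontrivial `p`-element of `H`. -/
theorem evAt_of_inv_par {p : ℕ} [Fact p.Prime] [Finite G] (hp2 : p ≠ 2)
    {B U H N : Subgroup G} (D : BTN B U H N)
    (hpar : ∀ χ : IrrCharacter G, ∃ z : ℤ, md U (χ : G → ℂ) - (χ : G → ℂ) 1 = 2 * z)
    (hH : ∀ s ∈ H, ∀ t ∈ H, s * t = t * s) {n : G} (hn : n ∈ N) (hn2 : ∀ t ∈ H, n * n * t = t * (n * n))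
    {t : G} (ht : t ∈ H) (ht1 : t ≠ 1) {k : ℕ} (htk : t ^ p ^ k = 1) (hinv : n⁻¹ * t * n = t⁻¹) : EvAt p G := by
  classical
  let _ : CommGroup H := { (inferInstance : Group H) with mul_comm := fun a b => Subtype.ext (hH a a.2 b b.2) }
  have ht1' : (⟨t, ht⟩ : H) ≠ 1 := fun h => ht1 (congrArg Subtype.val h)
  obtain ⟨lam0, h0⟩ := CommGroup.exists_apply_ne_one_of_hasEnoughRootsOfUnity H ℂ ht1'
  -- a character of `p`-power order
  obtain ⟨a, m, hm, ham⟩ := Nat.exists_eq_pow_mul_and_not_dvd (n := Nat.card H) Nat.card_pos.ne' p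
    (Fact.out : p.Prime).ne_one
  have hcard : ∀ s : H, lam0 s ^ Nat.card H = 1 := fun s => by
    rw [← map_pow, pow_card_eq_one', map_one]
  have htp : lam0 ⟨t, ht⟩ ^ p ^ k = 1 := by
    rw [← map_pow]
    have : (⟨t, ht⟩ : H) ^ p ^ k = 1 := Subtype.ext htk
    rw [this, map_one]
  have hne2 : lam0 ⟨t, ht⟩ ^ (2 * m) ≠ 1 := by
    intro h
    apply h0
    have h1 : Nat.Coprime (2 * m) (p ^ k) := by
      refine Nat.Coprime.pow_right k (Nat.Coprime.mul_left ?_ ?_)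
      · exact (Nat.coprime_primes Nat.prime_two Fact.out).2 hp2.symm
      · exact ((Nat.Prime.coprime_iff_not_dvd Fact.out).2 hm).symm
    exact orderOf_eq_one_iff.1 (Nat.eq_one_of_dvd_coprimes h1 (orderOf_dvd_of_pow_eq_one h) (orderOf_dvd_of_pow_eq_one htp))
  let c : H ≃* H := D.cj hn
  let lam : H →* ℂˣ :=
    { toFun := fun s => (lam0 s ^ m) * (lam0 (c s) ^ m)⁻¹
      map_one' := by simp
      map_mul' := by
        intro x y
        rw [map_mul, map_mul, map_mul, mul_pow, mul_pow, mul_inv]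
        exact mul_mul_mul_comm _ _ _ _ }
  have hlam : ∀ s, lam s = (lam0 s ^ m) * (lam0 (c s) ^ m)⁻¹ := fun s => rfl
  refine evAt_of_btn_par hp2 D hpar lam ⟨a, fun s => ?_⟩ ?_ hn fun s hs => ?_
  · rw [hlam, mul_pow, inv_pow, ← pow_mul, ← pow_mul, mul_comm m, ← ham, hcard, hcard, inv_one, mul_one]
  · intro h
    have h1 := hlam ⟨t, ht⟩
    rw [h] at h1
    have h2 : c ⟨t, ht⟩ = (⟨t, ht⟩ : H)⁻¹ := Subtype.ext hinv
    rw [h2, map_inv, inv_pow, inv_inv, ← pow_add, ← two_mul] at h1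
    exact hne2 h1.symm
  · have h1 : (⟨n⁻¹ * s * n, hs⟩ : H) = c s := rfl
    have h2 : c (c s) = s := by
      apply Subtype.ext
      show n⁻¹ * (n⁻¹ * (s : G) * n) * n = s
      have h3 := hn2 s s.2
      calc n⁻¹ * (n⁻¹ * (s : G) * n) * n = n⁻¹ * n⁻¹ * (s * (n * n)) := by group
        _ = n⁻¹ * n⁻¹ * (n * n * s) := by rw [h3]
        _ = s := by group
    rw [h1, hlam, hlam, h2, mul_inv, inv_inv, mul_comm]

end abs

section rgd

open CoxeterSystem Cfsg.Agent.ChevalleyStructure.CoxeterGeom Cfsg.Agent.Tits.Roots Cfsg.Agent.Tits.Core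
  Cfsg.Agent.Tits.Exchange Cfsg.Agent.Nodes.Reps Cfsg.Agent.Nodes.BNOf Cfsg.Agent.Nodes.StabComb
  Cfsg.Agent.Nodes.Bruhat Cfsg.Agent.Nodes.OppDec Cfsg.Agent.Nodes.LeviDec
open Cfsg.Agent.LieExceptional.BNPairCore

variable {I W : Type*} {Y : Type u} [Fintype I] [DecidableEq I] [Group W] [Group Y] {M : CoxeterMatrix I}
  {cs : CoxeterSystem M W} {A : I → I → ℤ} {h : IsCartan M A} {r : ℕ} {T : Subgroup Y} {n : I → Y}
  {X : (I → ℤ) → Subgroup Y}

/-- the split (B, N)-pair of a root group datum -/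
theorem btn_of_rgd [Finite W] [Finite Y] [Fact r.Prime] (R : RGD cs h r T n X)
    (hG1 : Cfsg.Agent.Nodes.RGDLib.G1 cs h X = ⊤) :
    BTN (RGD.B cs h T X) (RGD.Sup X (RGD.Pos cs h)) T (NN cs R.nsys) := by
  have hgen : RGD.B cs h T X ⊔ NN cs R.nsys = ⊤ := Cfsg.Agent.Nodes.RGDLib.rgd_gen_of_G1 R hG1
  have hG : GG cs h T X = ⊤ := by
    rw [eq_top_iff, ← hG1]
    exact le_sup_right
  have hN : ∀ k ∈ NN cs R.nsys, ∀ t ∈ T, k * t * k⁻¹ ∈ T := by
    rintro k ⟨w, hw⟩ t ht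
    exact (Subgroup.mem_normalizer_iff.1 hw.mem_normalizer t).1 ht
  have hdisj : ∀ t ∈ RGD.Sup X (RGD.Pos cs h), t ∈ T → t = 1 := by
    intro t ht ht'
    obtain ⟨k, hk⟩ := R.isPGroup_Upos ⟨t, ht⟩
    have hk' : t ^ r ^ k = 1 := congrArg Subtype.val hk
    have h1 : t ^ Nat.card T = 1 := by
      have := pow_card_eq_one' (G := T) (x := ⟨t, ht'⟩)
      exact congrArg Subtype.val this
    have h2 : orderOf t = 1 := Nat.eq_one_of_dvd_coprimes (Nat.Coprime.pow_right k R.tcop)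
      (orderOf_dvd_of_pow_eq_one h1) (orderOf_dvd_of_pow_eq_one hk')
    exact orderOf_eq_one_iff.1 h2
  refine
    { UB := RGD.U_le_B
      HB := RGD.T_le_B
      HN := fun t ht => ⟨1, rp_of_mem ht⟩
      cover := ?_
      disj := hdisj
      norm := fun b hb u hu => (Subgroup.mem_normalizer_iff.1 (R.B_le_normalizer_U hb) u).1 hu
      cnj := hN
      pel := ?_
      bruhat := ?_
      uniq := ?_ }
  · intro b hb
    obtain ⟨t, ht, u, hu, e⟩ := R.mem_B.1 hb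
    refine ⟨t * u * t⁻¹, (Subgroup.mem_normalizer_iff.1 (R.B_le_normalizer_U (RGD.T_le_B ht)) u).1 hu, t, ht, ?_⟩
    rw [e]; group
  · intro k hk u hu hB
    obtain ⟨m, hm⟩ := R.isPGroup_Upos ⟨u, hu⟩
    have hm' : u ^ r ^ m = 1 := congrArg Subtype.val hm
    obtain ⟨t, ht, v, hv, e⟩ := R.mem_B.1 hB
    have hpow : ∀ j : ℕ, ∃ v' ∈ RGD.Sup X (RGD.Pos cs h), (t * v) ^ j = t ^ j * v' := by
      intro j
      induction j with
      | zero => exact ⟨1, one_mem _, by simp⟩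
      | succ j ih =>
        obtain ⟨v', hv', e'⟩ := ih
        have h1 : t⁻¹ * v' * t⁻¹⁻¹ ∈ RGD.Sup X (RGD.Pos cs h) :=
          (Subgroup.mem_normalizer_iff.1 (R.B_le_normalizer_U (inv_mem (RGD.T_le_B ht))) v').1 hv'
        refine ⟨t⁻¹ * v' * t⁻¹⁻¹ * v, mul_mem h1 hv, ?_⟩
        rw [pow_succ, e', pow_succ]; group
    obtain ⟨v', hv', e'⟩ := hpow (r ^ m)
    have h1 : (t * v) ^ r ^ m = 1 := by
      rw [← e]
      have h2 : k⁻¹ * u * k = MulAut.conj k⁻¹ u := by simp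
      rw [h2, ← map_pow, hm', map_one]
    rw [h1] at e'
    have h3 : t ^ r ^ m = v'⁻¹ := eq_inv_of_mul_eq_one_left e'.symm
    have h4 : t ^ r ^ m = 1 := hdisj _ (by rw [h3]; exact inv_mem hv') (Subgroup.pow_mem _ ht _)
    have h5 : t ^ Nat.card T = 1 := by
      have := pow_card_eq_one' (G := T) (x := ⟨t, ht⟩)
      exact congrArg Subtype.val this
    have h6 : t = 1 := orderOf_eq_one_iff.1 (Nat.eq_one_of_dvd_coprimes (Nat.Coprime.pow_right m R.tcop)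
      (orderOf_dvd_of_pow_eq_one h5) (orderOf_dvd_of_pow_eq_one h4))
    rw [e, h6, one_mul]
    exact hv
  · intro g
    obtain ⟨w, b₁, hb₁, k, hk, b₂, hb₂, e⟩ := (mem_GG R).1 (show g ∈ GG cs h T X by rw [hG]; exact Subgroup.mem_top g)
    exact ⟨k, ⟨w, hk⟩, b₁, hb₁, b₂, hb₂, e⟩
  · intro k hk k' hk' a ha b hb e
    have h1 : k' ∈ C (R.bnPair hgen) k := mem_C.2 ⟨a, ha, b, hb, e⟩
    have h2 : k⁻¹ * k' ∈ RGD.B cs h T X := rel_of_C_eq (P := R.bnPair hgen) hk hk' (C_eq_of_mem h1).symm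
    have h3 : k⁻¹ * k' ∈ RGD.B cs h T X ⊓ NN cs R.nsys := ⟨h2, (NN cs R.nsys).mul_mem ((NN cs R.nsys).inv_mem hk) hk'⟩
    rwa [R.B_inf_NN] at h3

variable [Finite Y]

/-- **[Q2]** -/
theorem evAt_q2 [Finite W] [Fact r.Prime] (hr : r ≠ 2) (R : RGD cs h r T n X)
    (hG : Cfsg.Agent.Nodes.RGDLib.G1 cs h X = ⊤)
    (hT : ∀ a ∈ T, ∀ b ∈ T, a * b = b * a) (hpar : ParU r Y) {p : ℕ} [Fact p.Prime] (hp2 : p ≠ 2) (hpr : p ≠ r)
    (hmv : ∃ i, ∃ t ∈ T, (∃ k : ℕ, t ^ p ^ k = 1) ∧ n i * t ≠ t * n i) : EvAt p Y := by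
  have hGG : GG cs h T X = ⊤ := by
    rw [eq_top_iff, ← hG]
    exact le_sup_right
  obtain ⟨S, hS⟩ := exists_sylow_U R hGG
  obtain ⟨i, t, ht, ⟨k, hk⟩, hne⟩ := hmv
  have D := btn_of_rgd R hG
  have hnN : n i ∈ NN cs R.nsys := ⟨_, rp_simple cs R.nsys i⟩
  have hsq := R.sq_mem_T i
  have ht1 : (n i)⁻¹ * t * n i ∈ T := D.conj' hnN ht
  -- `s = t⁻¹ n⁻¹ t n`
  have hinv : (n i)⁻¹ * (t⁻¹ * ((n i)⁻¹ * t * n i)) * n i = (t⁻¹ * ((n i)⁻¹ * t * n i))⁻¹ := by
    have h1 : (n i)⁻¹ * ((n i)⁻¹ * t * n i) * n i = t := by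
      have h2 := hT _ hsq t ht
      calc (n i)⁻¹ * ((n i)⁻¹ * t * n i) * n i = (n i * n i)⁻¹ * (t * (n i * n i)) := by group
        _ = (n i * n i)⁻¹ * ((n i * n i) * t) := by rw [h2]
        _ = t := by group
    calc (n i)⁻¹ * (t⁻¹ * ((n i)⁻¹ * t * n i)) * n i
        = ((n i)⁻¹ * t * n i)⁻¹ * ((n i)⁻¹ * ((n i)⁻¹ * t * n i) * n i) := by group
      _ = ((n i)⁻¹ * t * n i)⁻¹ * t := by rw [h1]
      _ = _ := by group
  refine evAt_of_inv_par hp2 D (fun χ => ?_) hT hnN (fun s hs => hT _ hsq s hs) (t := t⁻¹ * ((n i)⁻¹ * t * n i))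
    (mul_mem (inv_mem ht) ht1) ?_ (k := k) ?_ hinv
  · rw [← hS]
    exact hpar χ S
  · intro h1
    apply hne
    have h2 : (n i)⁻¹ * t * n i = t := by
      calc (n i)⁻¹ * t * n i = t * (t⁻¹ * ((n i)⁻¹ * t * n i)) := by group
        _ = t := by rw [h1, mul_one]
    calc n i * t = n i * ((n i)⁻¹ * t * n i) := by rw [h2]
      _ = t * n i := by group
  · have h1 : Commute t⁻¹ ((n i)⁻¹ * t * n i) := hT _ (inv_mem ht) _ ht1
    have h2 : ((n i)⁻¹ * t * n i) ^ p ^ k = 1 := by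
      have h3 : (n i)⁻¹ * t * n i = MulAut.conj (n i)⁻¹ t := by simp
      rw [h3, ← map_pow, hk, map_one]
    rw [h1.mul_pow, h2, inv_pow, hk, inv_one, one_mul]

end rgd

end Cfsg.Agent.H537.EP
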